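import Groth.Agent.L22.Inter.Mixed
import Groth.Agent.L22.Inter.FlatTwist
import Groth.Agent.L22.Inter.Fga
import Groth.Agent.L03.ShStab.TwistFlat
import Groth.Agent.L21.RR.BaseChange
import Groth.Agent.L15.Ref.FreeLocus
import Groth.Agent.L16.AffineBC.Pullback
import Groth.Agent.L19.AlgGrpBasic.OrbitDim
import Groth.Agent.S1026
import Groth.Prelude.Def_Pic13

/-!
# Euler characteristics and τ-equivalence
-/

set_option autoImplicit false
set_option linter.style.haveILetI false
set_option backward.isDefEq.respectTransparency false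

universe u

open CategoryTheory CategoryTheory.Limits AlgebraicGeometry TopologicalSpace

noncomputable section

namespace Groth.Agent.Pic13Tau

open Groth.L03.Euler Groth.L22.Inter Groth.L00.Tensor

variable (k : Type u) [Field k] {X : Scheme.{u}} [X.Over (Spec (CommRingCat.of k))]
  [IsProper (X ↘ Spec (CommRingCat.of k))]

local notation "pX" => (X ↘ Spec (CommRingCat.of k))

/-- `L` does not change the Euler characteristic of any coherent module. -/
def ChiTriv (L : X.Modules) : Prop :=
  ∀ F : X.Modules, Coh.IsCoh F → Curv2.euler k X (CohB1.tensorMod F L) = Curv2.euler k X F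

include k in
theorem noeth : IsNoetherian X := by
  haveI : IsLocallyNoetherian X := LocallyOfFiniteType.isLocallyNoetherian pX
  haveI : CompactSpace X := QuasiCompact.compactSpace_of_compactSpace pX
  exact {}

/-- The slice over a rational point is the fibre over its image. -/
theorem exists_fibre_slice {T : Scheme.{u}} (q : T ⟶ Spec (CommRingCat.of k)) [LocallyOfFiniteType q]
    (t : Spec (CommRingCat.of k) ⟶ T) (ht : t ≫ q = 𝟙 _) (G : (Pic13.prodK k X q).Modules) (hG : Coh.IsCoh G) :
    PerfAux.eulerChar (pullback.snd pX q) G (t (IsLocalRing.closedPoint k)) =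
      Curv2.euler k X (Pic13.fibreMod k X q t ht G) := by
  let f := pullback.snd pX q
  let y := t (IsLocalRing.closedPoint k)
  letI : (f.fiber y).Over (Spec (CommRingCat.of (T.residueField y))) := ⟨f.fiberToSpecResidueField y⟩
  let φ := Scheme.descResidueField (Scheme.stalkClosedPointTo t)
  letI : Algebra (T.residueField y) k := φ.hom.toAlgebra
  have hte : Spec.map φ ≫ T.fromSpecResidueField y = t := Scheme.descResidueField_stalkClosedPointTo_fromSpecResidueField k T t
  have hsl : IsPullback (Pic13.sliceAt k X q t ht) pX f t := by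
    refine IsPullback.of_right (h₁₂ := pullback.fst pX q) (h₂₂ := q) (v₁₃ := pX) ?_ ?_
      (IsPullback.of_hasPullback pX q).flip.flip
    · rw [show Pic13.sliceAt k X q t ht ≫ pullback.fst pX q = 𝟙 X from pullback.lift_fst _ _ _, ht]
      exact IsPullback.of_horiz_isIso ⟨by simp⟩
    · exact pullback.lift_snd _ _ _
  let p : X ⟶ f.fiber y := pullback.lift (Pic13.sliceAt k X q t ht) (pX ≫ Spec.map φ)
    (by rw [Category.assoc, hte]; exact hsl.w)
  have hp : p ≫ f.fiberι y = Pic13.sliceAt k X q t ht := pullback.lift_fst _ _ _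
  have sq : IsPullback p pX (f.fiberToSpecResidueField y)
      (Spec.map (CommRingCat.ofHom (algebraMap (T.residueField y) k))) := by
    refine IsPullback.of_right (h₁₂ := f.fiberι y) (h₂₂ := T.fromSpecResidueField y) (v₁₃ := f) ?_ ?_
      (IsPullback.of_hasPullback f (T.fromSpecResidueField y))
    · rw [hp, show CommRingCat.ofHom (algebraMap (T.residueField y) k) = φ from rfl, hte]
      exact hsl
    · exact pullback.lift_snd _ _ _
  haveI : IsProper (f.fiberToSpecResidueField y) := MorphismProperty.pullback_snd _ _ inferInstance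
  haveI : IsProper (f.fiber y ↘ Spec (CommRingCat.of (T.residueField y))) :=
    inferInstanceAs (IsProper (f.fiberToSpecResidueField y))
  haveI : IsLocallyNoetherian (f.fiber y) :=
    LocallyOfFiniteType.isLocallyNoetherian (f.fiber y ↘ Spec (CommRingCat.of (T.residueField y)))
  have h := Groth.L21.RR.euler_pullback (k := T.residueField y) (K := k) p sq
    (Groth.L16.AffineBC.isCoh_pullback (f.fiberι y) hG)
  refine Eq.trans h.symm ?_
  exact euler_iso ((Scheme.Modules.pullbackComp p (f.fiberι y)).app G ≪≫ (Scheme.Modules.pullbackCongr hp).app G)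

/-- An invertible module algebraically equivalent to zero does not change Euler characteristics. -/
theorem chiTriv_of_algEquiv {L : X.Modules} (h : Pic13.IsAlgEquivZero k X L) : ChiTriv k L := by
  intro F hF
  obtain ⟨T, q, hT, hft, hqc, M, hM, t, t₀, ht, ht₀, ⟨e⟩, ⟨e₀⟩⟩ := h
  haveI := hqc
  haveI := hft
  haveI := noeth k (X := X)
  haveI := hF.1
  haveI : IsLocallyNoetherian T := LocallyOfFiniteType.isLocallyNoetherian q
  let f := pullback.snd pX q
  haveI : IsLocallyNoetherian (Pic13.prodK k X q) := LocallyOfFiniteType.isLocallyNoetherian f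
  haveI : LocallyOfFinitePresentation f := LocallyOfFinitePresentation.iff_locallyOfFiniteType.2 inferInstance
  let G₁ := (Scheme.Modules.pullback (pullback.fst pX q)).obj F
  have hG₁ : Coh.IsCoh G₁ := Groth.L16.AffineBC.isCoh_pullback _ hF
  have hG : Coh.IsCoh (CohB1.tensorMod G₁ M) := Groth.L03.Euler.isCoh_tensor hM hG₁
  have hfl : FlatMod.IsFlatOver f (CohB1.tensorMod G₁ M) :=
    Groth.L03.ShStab.TwistFlat.isFlatOver_tensor f hM (Groth.L29.DC.RelBC.isFlatOver_pullback
      (IsPullback.of_hasPullback pX q) (Groth.L03.ShStab.TwistFlat.isFlatOver_field pX F))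
  have hloc := Groth.Agent.S1026.result f (CohB1.tensorMod G₁ M) (Groth.L15.Ref.isFP_of_isCoh hG) hfl
  have hval : ∀ (s : Spec (CommRingCat.of k) ⟶ T) (hs : s ≫ q = 𝟙 _) (N : X.Modules),
      (Pic13.fibreMod k X q s hs M ≅ N) →
      PerfAux.eulerChar f (CohB1.tensorMod G₁ M) (s (IsLocalRing.closedPoint k)) =
        Curv2.euler k X (CohB1.tensorMod F N) := by
    intro s hs N eN
    rw [exists_fibre_slice k q s hs _ hG]
    exact euler_iso ((Groth.L29.DC.PullTensor.pullTensor (Pic13.sliceAt k X q s hs) G₁ M).symm ≪≫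
      tensorIso ((Scheme.Modules.pullbackComp (Pic13.sliceAt k X q s hs) (pullback.fst pX q)).app F ≪≫
        (Scheme.Modules.pullbackCongr (pullback.lift_fst _ _ _)).app F ≪≫ (Scheme.Modules.pullbackId X).app F) eN)
  have := hloc.apply_eq_of_preconnectedSpace (t (IsLocalRing.closedPoint k)) (t₀ (IsLocalRing.closedPoint k))
  rw [hval t ht L e, hval t₀ ht₀ _ e₀] at this
  exact this.trans (euler_iso (tensorUnitRight F))

theorem chiTriv_unit : ChiTriv k (Coh.structureModule X) := fun F _ => euler_iso (tensorUnitRight F)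

theorem chiTriv_iso {L M : X.Modules} (e : L ≅ M) (h : ChiTriv k L) : ChiTriv k M := fun F hF =>
  (euler_iso (tensorIso (Iso.refl F) e.symm)).trans (h F hF)

theorem chiTriv_tensor {L M : X.Modules} (hM : PicF.IsInvertible M) (h : ChiTriv k L) (h' : ChiTriv k M) :
    ChiTriv k (CohB1.tensorMod M L) := fun F hF => by
  haveI := noeth k (X := X)
  rw [← euler_iso (tensorAssoc F M L), h _ (Groth.L03.Euler.isCoh_tensor hM hF), h' F hF]

theorem chiTriv_pow {L : X.Modules} (hL : PicF.IsInvertible L) (h : ChiTriv k L) : ∀ n : ℕ,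
    ChiTriv k (CohB1.tensorPow L n)
  | 0 => chiTriv_unit k
  | n + 1 => chiTriv_tensor k (Groth.L18.Ample.isInvertible_tensorPow hL n) h (chiTriv_pow hL h n)

theorem chiTriv_inv {L L' : X.Modules} (hL' : PicF.IsInvertible L') (e : CohB1.tensorMod L L' ≅ Coh.structureModule X)
    (h : ChiTriv k L) : ChiTriv k L' := fun F hF => by
  haveI := noeth k (X := X)
  have h1 := h _ (Groth.L03.Euler.isCoh_tensor hL' hF)
  rw [euler_iso (tensorAssoc F L' L ≪≫ tensorIso (Iso.refl F) (tensorComm L' L ≪≫ e) ≪≫ tensorUnitRight F)] at h1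
  exact h1.symm

/-- If some positive power preserves all Euler characteristics, then so does the module itself. -/
theorem chiTriv_of_pow {L : X.Modules} (hL : PicF.IsInvertible L) {n : ℕ} (hn : 0 < n)
    (h : ChiTriv k (CohB1.tensorPow L n)) : ChiTriv k L := by
  haveI := noeth k (X := X)
  have hLr : ∀ r : ℕ, ∀ i : Fin r, PicF.IsInvertible ((fun _ => L : Fin r → X.Modules) i) := fun _ _ => hL
  have hper : ∀ (r : ℕ) (G : X.Modules), Coh.IsCoh G →
      altT k (fun _ : Fin r => L) (CohB1.tensorMod G (CohB1.tensorPow L n)) = altT k (fun _ : Fin r => L) G := by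
    intro r G hG
    refine congrArg alt (funext fun v => congrArg (Int.cast : ℤ → ℚ) ?_)
    rw [euler_iso (tensorAssoc G (CohB1.tensorPow L n) _ ≪≫ tensorIso (Iso.refl G) (tensorComm _ _) ≪≫
      (tensorAssoc G _ _).symm)]
    exact h _ (Groth.L03.Euler.isCoh_tensor (isInvertible_tensorPows (hLr r) v) hG)
  have hsucc : ∀ (r : ℕ) (G : X.Modules), altT k (fun _ : Fin (r + 1) => L) G =
      altT k (fun _ : Fin r => L) (CohB1.tensorMod G L) - altT k (fun _ : Fin r => L) G := fun r G =>
    altT_succ k (fun _ : Fin (r + 1) => L) G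
  have hstep : ∀ r : ℕ, (∀ G, Coh.IsCoh G → altT k (fun _ : Fin (r + 2) => L) G = 0) →
      ∀ G, Coh.IsCoh G → altT k (fun _ : Fin (r + 1) => L) G = 0 := by
    intro r h2 G hG
    let c := altT k (fun _ : Fin (r + 1) => L) G
    let g : ℕ → ℚ := fun j => altT k (fun _ : Fin r => L) (CohB1.tensorMod G (CohB1.tensorPow L j))
    have hcj : ∀ j, Coh.IsCoh (CohB1.tensorMod G (CohB1.tensorPow L j)) := fun j =>
      Groth.L03.Euler.isCoh_tensor (Groth.L18.Ample.isInvertible_tensorPow hL j) hG
    have hd : ∀ j, altT k (fun _ : Fin (r + 1) => L) (CohB1.tensorMod G (CohB1.tensorPow L j)) = c := by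
      intro j
      induction j with
      | zero => exact altT_iso k _ (tensorUnitRight G)
      | succ j ih =>
        have e := h2 _ (hcj j)
        rw [hsucc (r + 1), sub_eq_zero] at e
        rw [← ih, ← e]
        exact altT_iso k _ (tensorAssoc G _ L).symm
    have hg : ∀ j, g j = g 0 + j * c := by
      intro j
      induction j with
      | zero => simp
      | succ j ih =>
        have e := hd j
        rw [hsucc r, altT_iso k _ (tensorAssoc G (CohB1.tensorPow L j) L)] at e
        have : g (j + 1) = g j + c := by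
          show altT k _ (CohB1.tensorMod G (CohB1.tensorMod (CohB1.tensorPow L j) L)) = g j + c
          linarith
        rw [this, ih]
        push_cast
        ring
    have h0 : g n = g 0 := (hper r G hG).trans (altT_iso k _ (tensorUnitRight G).symm)
    rw [hg n, add_eq_left] at h0
    exact (mul_eq_zero.1 h0).resolve_left (by exact_mod_cast hn.ne')
  have hone : ∀ G, Coh.IsCoh G → altT k (fun _ : Fin 1 => L) G = 0 := by
    obtain ⟨d, hd⟩ := Groth.L19.AlgGrpBasic.exists_dim_bound (X := X) pX
    have hbase : ∀ G, Coh.IsCoh G → altT k (fun _ : Fin (d + 1 + 1) => L) G = 0 := fun G hG =>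
      altT_eq_zero k (hLr _) hG ((add_le_add_left ((Topology.IsInducing.subtypeVal.topologicalKrullDim_le).trans hd) 1).trans
        (by exact_mod_cast Nat.le_succ (d + 1)))
    have : ∀ j ≤ d + 1, ∀ G, Coh.IsCoh G → altT k (fun _ : Fin (d + 1 + 1 - j) => L) G = 0 := by
      intro j hj
      induction j with
      | zero => exact hbase
      | succ j ih =>
        obtain ⟨r, hr⟩ : ∃ r, d + 1 + 1 - j = r + 2 := ⟨d - j, by omega⟩
        have ih' := ih (by omega)
        rw [hr] at ih'
        rw [show d + 1 + 1 - (j + 1) = r + 1 by omega]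
        exact hstep r ih'
    have h1 := this (d + 1) le_rfl
    rwa [show d + 1 + 1 - (d + 1) = 1 by omega] at h1
  intro G hG
  have h1 := hone G hG
  rw [hsucc 0, altT_zero_eq, altT_zero_eq, sub_eq_zero] at h1
  exact_mod_cast h1

theorem chiTriv_of_tauEquiv {L : X.Modules} (hL : PicF.IsInvertible L) (h : Pic13.IsTauEquivZero k X L) :
    ChiTriv k L := by
  obtain ⟨n, hn, h⟩ := h
  exact chiTriv_of_pow k hL hn (chiTriv_of_algEquiv k h)

end Groth.Agent.Pic13Tau
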