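import Groth.Agent.L26.Pic13.TauChi
import Groth.Agent.L26.AbDual.Cancel
import Groth.Agent.L02.Hilb.Base
import Groth.Agent.L02.Canon.DescInvertible
import Groth.Agent.L07.PrinParts.GrBaseChange
import Groth.Agent.L12.HypSq.Curve
import Groth.Agent.L21.Duality.EllipticPic
import Groth.Agent.L21.RR.PointDrop
import Groth.Agent.L21.RR.TwoPoints
import Groth.Agent.L21.SmoothCurveDim
import Groth.Agent.L19.IdealInvertible
import Groth.Agent.S15990

/-!
# Degree zero and algebraic equivalence on a curve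
-/

set_option autoImplicit false
set_option linter.style.haveILetI false
set_option backward.isDefEq.respectTransparency false

universe u

open CategoryTheory CategoryTheory.Limits AlgebraicGeometry TopologicalSpace

noncomputable section

namespace Groth.Agent.CurvePicZero

open Groth.L00.Tensor
open Groth.L21.RR (ptI)

variable {k : Type u} [Field k] [IsAlgClosed k] {C : Scheme.{u}} [C.Over (Spec (CommRingCat.of k))]
  [IsProper (C ↘ Spec (CommRingCat.of k))] [Smooth (C ↘ Spec (CommRingCat.of k))]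
  [IsIntegral C] (hd : topologicalKrullDim C = 1)

local notation "pC" => (C ↘ Spec (CommRingCat.of k))

theorem algEquiv_iso {L M : C.Modules} (e : L ≅ M) (h : Pic13.IsAlgEquivZero k C L) :
    Pic13.IsAlgEquivZero k C M := by
  obtain ⟨T, q, hT, hft, hqc, N, hN, t, t₀, ht, ht₀, ⟨i⟩, h₀⟩ := h
  exact ⟨T, q, hT, hft, hqc, N, hN, t, t₀, ht, ht₀, ⟨i ≪≫ e⟩, h₀⟩

theorem algEquiv_unit : Pic13.IsAlgEquivZero k C (Coh.structureModule C) := by
  haveI : Subsingleton ↥(Spec (CommRingCat.of k)) := inferInstanceAs (Subsingleton (PrimeSpectrum k))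
  haveI : Nonempty ↥(Spec (CommRingCat.of k)) := inferInstanceAs (Nonempty (PrimeSpectrum k))
  haveI : ConnectedSpace ↥(Spec (CommRingCat.of k)) :=
    { isPreconnected_univ := Set.subsingleton_univ.isPreconnected, toNonempty := inferInstance }
  exact ⟨Spec (CommRingCat.of k), 𝟙 _, inferInstance, inferInstance, inferInstance, Coh.structureModule _,
    Groth.L18.Ample.isInvertible_structureModule _, 𝟙 _, 𝟙 _, Category.comp_id _, Category.comp_id _,
    ⟨Groth.L29.LocFree.pullbackUnitIso _⟩, ⟨Groth.L29.LocFree.pullbackUnitIso _⟩⟩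

include hd in
/-- The diagonal family restricts to the ideals of the points. -/
theorem exists_diag_family :
    ∃ I : (Pic13.prodK k C pC).Modules, PicF.IsInvertible I ∧
      ∀ (P : C) (hP : IsClosed ({P} : Set C)),
        Nonempty (Pic13.fibreMod k C pC (pointOfClosedPoint pC P hP) (pointOfClosedPoint_comp _ P hP) I ≅ ptI P hP) := by
  haveI := Groth.L21.SmoothCurve.smoothOfRelativeDimension_one pC hd
  let σ : C ⟶ Pic13.prodK k C pC := pullback.lift (𝟙 C) (𝟙 C) rfl
  have hσ : σ ≫ pullback.snd pC pC = 𝟙 C := pullback.lift_snd _ _ _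
  haveI := smoothOfRelativeDimension_isStableUnderBaseChange.{u} 1
  haveI : SmoothOfRelativeDimension 1 (pullback.snd pC pC) := MorphismProperty.pullback_snd _ _ inferInstance
  have hE := (Groth.Agent.S15990.result (pullback.snd pC pC) σ hσ).1
  haveI : IsClosedImmersion (σ ≫ pullback.snd pC pC) := by rw [hσ]; infer_instance
  haveI : IsClosedImmersion σ := IsClosedImmersion.of_comp σ (pullback.snd pC pC)
  have hI := (Groth.Agent.L19.IdealInvertible.isEffCartier_iff σ.ker).2 hE
  refine ⟨_, hI, fun P hP => ?_⟩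
  let y := pointOfClosedPoint pC P hP
  have hy : y ≫ pC = 𝟙 _ := pointOfClosedPoint_comp _ P hP
  haveI : IsClosedImmersion y := isClosedImmersion_of_comp_eq_id _ _ hy
  have sq : IsPullback (Pic13.sliceAt k C pC y hy) pC (pullback.snd pC pC) y := by
    refine IsPullback.of_right (h₁₂ := pullback.fst pC pC) (h₂₂ := pC) (v₁₃ := pC) ?_ ?_
      (IsPullback.of_hasPullback pC pC)
    · rw [show Pic13.sliceAt k C pC y hy ≫ pullback.fst pC pC = 𝟙 C from pullback.lift_fst _ _ _, hy]
      exact IsPullback.of_horiz_isIso ⟨by simp⟩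
    · exact pullback.lift_snd _ _ _
  have hc : σ.ker.comap (Pic13.sliceAt k C pC y hy) = y.ker := by
    refine Groth.L02.Hilb.ker_section_comap sq σ hσ y hy ?_
    apply pullback.hom_ext
    · simp [Pic13.sliceAt, σ]
    · simp [Pic13.sliceAt, σ, reassoc_of% hy]
  have hyP : y.ker = Scheme.IdealSheafData.vanishingIdeal ⟨{P}, hP⟩ :=
    Groth.L21.RR.ker_eq_vanishingIdeal_point k y hP fun q => by
      rw [Subsingleton.elim (α := PrimeSpectrum k) q (IsLocalRing.closedPoint k)]
      exact pointOfClosedPoint_apply pC P hP _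
  obtain ⟨α, -, hα, -⟩ := Groth.L07.PrinParts.exists_idealMap (Pic13.sliceAt k C pC y hy) σ.ker
    (Scheme.IdealSheafData.vanishingIdeal ⟨{P}, hP⟩) (hc.trans hyP).symm
  haveI := hα
  haveI := Groth.L02.Canon.DescInvertible.isIso_of_epi_invertible α (PicLoc.isInvertible_pullback _ hI)
    (Groth.L21.Duality.deg_ptI (k := k) hd hP).1
  exact ⟨asIso α⟩

include hd in
/-- The difference of two points is algebraically equivalent to zero. -/
theorem algEquiv_point_diff {P Q : C} (hP : IsClosed ({P} : Set C)) (hQ : IsClosed ({Q} : Set C))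
    {D : C.Modules} (hD : PicF.IsInvertible D) (e : CohB1.tensorMod (ptI Q hQ) D ≅ Coh.structureModule C) :
    Pic13.IsAlgEquivZero k C (CohB1.tensorMod (ptI P hP) D) := by
  obtain ⟨I, hI, hfib⟩ := exists_diag_family (k := k) hd
  haveI : ConnectedSpace ↥C := inferInstance
  refine ⟨C, pC, inferInstance, inferInstance, inferInstance,
    CohB1.tensorMod I ((Scheme.Modules.pullback (pullback.fst pC pC)).obj D),
    Groth.L18.GenLoc.isInvertible_tensor hI (PicLoc.isInvertible_pullback _ hD),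
    pointOfClosedPoint pC P hP, pointOfClosedPoint pC Q hQ,
    pointOfClosedPoint_comp _ _ _, pointOfClosedPoint_comp _ _ _, ?_, ?_⟩
  all_goals (
    first
    | (obtain ⟨i⟩ := hfib P hP
       refine ⟨(Groth.L29.DC.PullTensor.pullTensor _ I _).symm ≪≫
        tensorIso i ((Scheme.Modules.pullbackComp _ (pullback.fst pC pC)).app D ≪≫
          (Scheme.Modules.pullbackCongr (pullback.lift_fst _ _ _)).app D ≪≫ (Scheme.Modules.pullbackId C).app D)⟩; done)
    | (obtain ⟨i⟩ := hfib Q hQ
       refine ⟨(Groth.L29.DC.PullTensor.pullTensor _ I _).symm ≪≫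
        tensorIso i ((Scheme.Modules.pullbackComp _ (pullback.fst pC pC)).app D ≪≫
          (Scheme.Modules.pullbackCongr (pullback.lift_fst _ _ _)).app D ≪≫ (Scheme.Modules.pullbackId C).app D) ≪≫ e⟩; done))

include hd in
/-- An invertible module with a section, shifted down by its degree times a point, is algebraically
equivalent to zero. -/
theorem algEquiv_of_section {P₀ : C} (hP₀ : IsClosed ({P₀} : Set C)) :
    ∀ (n : ℕ) (N : C.Modules), PicF.IsInvertible N → Curv2.deg k C N 1 = n →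
      (∃ φ : Coh.structureModule C ⟶ N, φ ≠ 0) →
      Pic13.IsAlgEquivZero k C (CohB1.tensorMod N (CohB1.tensorPow (ptI P₀ hP₀) n)) := by
  haveI := Groth.L21.RR.isNoetherian_of_proper (X := C) k
  intro n
  induction n using Nat.strong_induction_on with
  | _ n ih =>
  intro N hN hn ⟨φ, hφ⟩
  haveI := Groth.L21.RR.mono_of_ne_zero hN hφ
  by_cases hall : ∀ x : C, Function.Surjective (Groth.L21.RR.st φ x)
  · haveI : Epi φ := (Groth.L21.Mod.epi_iff_stalk_surjective φ).2 hall
    haveI : IsIso φ := isIso_of_mono_of_epi φ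
    have h0 : Curv2.deg k C N 1 = 0 := by
      rw [← Groth.L21.RR.deg_congr k (asIso φ) 1, Curv2.deg]
      push_cast
      ring
    obtain rfl : n = 0 := by omega
    exact algEquiv_iso ((asIso φ) ≪≫ (tensorUnitRight N).symm) algEquiv_unit
  obtain ⟨P, hPs⟩ := not_forall.1 hall
  have hP : IsClosed ({P} : Set C) := by
    by_contra hc
    exact hPs (Groth.L21.RR.surjective_st_of_not_closed hd.le hN hφ hc)
  obtain ⟨hN', -, hdeg', -⟩ := Groth.L21.RR.twist_point k hd hN hP
  obtain ⟨ψ, hψ⟩ := (Groth.L21.RR.isMinusPt_twι hN hP).exists_lift_section hN φ hPs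
  have hψ0 : ψ ≠ 0 := fun h0 => hφ (by rw [← hψ, h0, zero_comp])
  have hge : 0 ≤ Curv2.deg k C (CohB1.tensorMod N (ptI P hP)) 1 :=
    (Int.natCast_nonneg _).trans_eq (Groth.L21.RR.deg_eq_h0_cokernel k hd.le hN' hψ0).symm
  obtain ⟨m, rfl⟩ : ∃ m, n = m + 1 := ⟨n - 1, by omega⟩
  have h1 := ih m (by omega) _ hN' (by rw [hdeg', hn]; push_cast; ring) ⟨ψ, hψ0⟩
  obtain ⟨D, hD, ⟨eD⟩⟩ := Groth.L08.Cube.exists_inverse (Groth.L21.Duality.deg_ptI (k := k) hd hP).1
  have h2 := algEquiv_point_diff (k := k) hd hP₀ hP hD eD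
  refine algEquiv_iso ?_ (Groth.Agent.AbDualLib.isAlgEquivZero_tensor k C h1 h2)
  -- `(N ⊗ I_P ⊗ I₀^m) ⊗ (I₀ ⊗ D) ≅ N ⊗ I₀^(m+1)`
  exact tensorAssoc _ _ _ ≪≫
    tensorIso (Iso.refl (CohB1.tensorMod N (ptI P hP)))
      ((tensorAssoc _ _ _).symm ≪≫ tensorComm _ D) ≪≫
    (tensorAssoc _ D _).symm ≪≫
    tensorIso (tensorAssoc N _ D ≪≫ tensorIso (Iso.refl N) eD ≪≫ tensorUnitRight N) (Iso.refl _)

include hd in
theorem algEquiv_of_deg_zero {L : C.Modules} (hL : PicF.IsInvertible L) (h0 : Curv2.deg k C L 1 = 0) :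
    Pic13.IsAlgEquivZero k C L := by
  haveI := Groth.L21.RR.isNoetherian_of_proper (X := C) k
  obtain ⟨P, hP, -⟩ := Groth.L21.RR.exists_regular_point (X := C) k hd
  obtain ⟨hI, hdI⟩ := Groth.L21.Duality.deg_ptI (k := k) hd hP
  rw [Groth.L21.RR.finrank_residueField_eq_one k hP] at hdI
  obtain ⟨D, hD, ⟨eD⟩⟩ := Groth.L08.Cube.exists_inverse hI
  have hdD : Curv2.deg k C D 1 = 1 := by
    have h1 := Groth.L21.Duality.deg_tensor (k := k) hd hI hD
    rw [Groth.L21.RR.deg_congr k eD 1, hdI, Curv2.deg] at h1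
    push_cast at h1
    omega
  have hpow : ∀ n : ℕ, Curv2.deg k C (CohB1.tensorPow D n) 1 = n := by
    intro n
    induction n with
    | zero => simp [CohB1.tensorPow, Curv2.deg]
    | succ n ih =>
      rw [show CohB1.tensorPow D (n + 1) = CohB1.tensorMod (CohB1.tensorPow D n) D from rfl,
        Groth.L21.Duality.deg_tensor (k := k) hd (Groth.L18.Ample.isInvertible_tensorPow hD n) hD, ih, hdD]
      push_cast
      rfl
  let g := Curv2.genus k C
  let N := CohB1.tensorMod L (CohB1.tensorPow D g)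
  have hN : PicF.IsInvertible N :=
    Groth.L18.GenLoc.isInvertible_tensor hL (Groth.L18.Ample.isInvertible_tensorPow hD g)
  have hdN : Curv2.deg k C N 1 = g := by
    rw [Groth.L21.Duality.deg_tensor (k := k) hd hL (Groth.L18.Ample.isInvertible_tensorPow hD g), h0, hpow,
      zero_add]
  haveI : ConnectedSpace ↥C := inferInstance
  have hr := Groth.L21.Duality.rr_deg (k := k) hd.le Groth.L12.HypSq.h0_structure N
  have hpos : 1 ≤ Groth.L21.RR.h k 0 N := by omega
  haveI := Groth.L21.Duality.nontrivial_of_h0_pos (k := k) hpos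
  obtain ⟨φ, hφ⟩ := Groth.L21.RR.exists_hom_ne_zero (L := N)
  obtain ⟨e⟩ : Nonempty (CohB1.tensorMod (CohB1.tensorPow D g) (CohB1.tensorPow (ptI P hP) g) ≅ Coh.structureModule C) :=
    ⟨(tensorPowTensor D (ptI P hP) g).symm ≪≫ tensorPowIso (tensorComm _ _ ≪≫ eD) g ≪≫ tensorPowUnit C g⟩
  refine algEquiv_iso ?_ (algEquiv_of_section (k := k) hd hP g N hN hdN ⟨φ, hφ⟩)
  exact tensorAssoc _ _ _ ≪≫ tensorIso (Iso.refl L) e ≪≫ tensorUnitRight L

end Groth.Agent.CurvePicZero
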